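import Groth.Agent.QuotTanLib.Surj
import Groth.Agent.HilbPointLib.QuotRegular
import Groth.Agent.HilbPointLib.Cotangent

/-!
# The tangent space of a Quot scheme at a rational point
-/

set_option autoImplicit false
set_option backward.isDefEq.respectTransparency false
set_option backward.isDefEq.respectTransparency.types false
set_option linter.style.haveILetI false

universe u

open CategoryTheory CategoryTheory.Limits AlgebraicGeometry TopologicalSpace Opposite ArtFun ArtFun.Art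
open Groth.Agent.PullbackMod Groth.Agent.DCohLib IsLocalRing Groth.Agent.HilbObsLib Groth.Agent.HilbPointLib
open Groth.Agent.ArtFunLib

noncomputable section

namespace Groth.Agent.QuotTanLib

variable {k : Type u} [Field k] {X : Scheme.{u}} (x : X ⟶ Spec (CommRingCat.of k)) (E : X.Modules)

/-- The first basis vector of the maximal ideal of `k[ε₁, ε₂]`. -/
def e₁ : (dual2 k k).carrier := (TrivSqZeroExt.inr ((1, 0) : k × k) : TrivSqZeroExt k (k × k))

/-- The second basis vector of the maximal ideal of `k[ε₁, ε₂]`. -/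
def e₂ : (dual2 k k).carrier := (TrivSqZeroExt.inr ((0, 1) : k × k) : TrivSqZeroExt k (k × k))

theorem maximalIdeal_dual2_le :
    maximalIdeal (dual2 k k).carrier ≤ Ideal.span {e₁} ⊔ Ideal.span {e₂} := by
  intro b hb
  have h0 : (b : TrivSqZeroExt k (k × k)).fst = 0 := (mem_maximalIdeal_iff (dual2 k k) b).1 hb
  have gen : ∀ y : TrivSqZeroExt k (k × k), y.fst = 0 → y = TrivSqZeroExt.inl y.snd.1 * TrivSqZeroExt.inr ((1, 0) : k × k) +
      TrivSqZeroExt.inl y.snd.2 * TrivSqZeroExt.inr ((0, 1) : k × k) := fun y hy => by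
    refine TrivSqZeroExt.ext ?_ (Prod.ext ?_ ?_) <;> simp [hy]
  have e := gen b h0
  rw [e]
  exact add_mem (Submodule.mem_sup_left (Ideal.mul_mem_left _ _ (Ideal.mem_span_singleton_self _)))
    (Submodule.mem_sup_right (Ideal.mul_mem_left _ _ (Ideal.mem_span_singleton_self _)))

theorem pr₁_e₁ : pr₁ (Λ := k) (k := k) e₁ = TanHilbLib.eps :=
  TrivSqZeroExt.ext (R := k) (M := k) rfl rfl

theorem pr₁_e₂ : pr₁ (Λ := k) (k := k) e₂ = 0 :=
  TrivSqZeroExt.ext (R := k) (M := k) rfl rfl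

theorem pr₂_e₁ : pr₂ (Λ := k) (k := k) e₁ = 0 :=
  TrivSqZeroExt.ext (R := k) (M := k) rfl rfl

theorem pr₂_e₂ : pr₂ (Λ := k) (k := k) e₂ = TanHilbLib.eps :=
  TrivSqZeroExt.ext (R := k) (M := k) rfl rfl

theorem plus_e₁ : plus (Λ := k) (k := k) e₁ = TanHilbLib.eps :=
  TrivSqZeroExt.ext (R := k) (M := k) rfl (show (1 : k) + 0 = 1 from add_zero _)

theorem plus_e₂ : plus (Λ := k) (k := k) e₂ = TanHilbLib.eps :=
  TrivSqZeroExt.ext (R := k) (M := k) rfl (show (0 : k) + 1 = 1 from zero_add _)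

theorem scale_eps (c : k) :
    scale (Λ := k) c TanHilbLib.eps = TanHilbLib.eps * algebraMap k (dual k k).carrier c := by
  refine TrivSqZeroExt.ext (R := k) (M := k) ?_ ?_
  · show (0 : k) = 0 * c
    rw [zero_mul]
  · show c * 1 = (TanHilbLib.eps * algebraMap k (dual k k).carrier c : DualNumber k).snd
    show c * 1 = ((DualNumber.eps : DualNumber k) * TrivSqZeroExt.inl c).snd
    simp

variable [LocallyOfFiniteType x]
  (Q : Over (Spec (CommRingCat.of k))) (Ku : FGA.QuotSet x E Q)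
  (h : Over.mk (𝟙 (specPt k)) ⟶ Q)

/-- The zero tangent vector. -/
def φz (B : Art k k) : letI := algStk Q h; HomSet (stk Q h) (resStk Q h) B :=
  letI := algStk Q h
  ⟨(Algebra.ofId k B).comp (resStk Q h), AlgHom.ext fun s => B.res.commutes _⟩

theorem map_φz {B A : Art k k} (g : B ⟶ A) :
    letI := algStk Q h
    HomSet.map g (φz Q h B) = φz Q h A := by
  letI := algStk Q h
  exact Subtype.ext (AlgHom.ext fun s => g.toAlgHom.commutes _)

/-- The quotient classified by an Artinian point. -/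
def fam {B : Art k k} (φ : letI := algStk Q h; HomSet (stk Q h) (resStk Q h) B) :
    FGA.QuotSet x E (T B) :=
  (exists_quotPull x E (toPt Q h φ) Ku).choose

theorem fam_spec {B : Art k k} (φ : letI := algStk Q h; HomSet (stk Q h) (resStk Q h) B) :
    FGA.quotPull x E (toPt Q h φ) Ku.1 = (fam x E Q Ku h φ).1 :=
  (exists_quotPull x E (toPt Q h φ) Ku).choose_spec

theorem fam_map {B A : Art k k} (g : B ⟶ A) (φ : letI := algStk Q h; HomSet (stk Q h) (resStk Q h) B) :
    letI := algStk Q h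
    FGA.quotPull x E (om g) (fam x E Q Ku h φ).1 = (fam x E Q Ku h (HomSet.map g φ)).1 := by
  letI := algStk Q h
  rw [← fam_spec, ← fam_spec, toPt_map, quotPull_trans]

variable (K₀ : FGA.QuotSet x E (T (base k k))) (e : T (base k k) = Over.mk (𝟙 (specPt k)))
  (hg : FGA.quotPull x E (eqToHom e ≫ h) Ku.1 = K₀.1)

include e in
omit [LocallyOfFiniteType x] in
theorem om_toBase (B : Art k k) : om (toBase B) = eqToHom e ≫ resA B := by
  refine Over.OverMorphism.ext ?_
  show specMap (toBase B) = _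
  rw [Over.comp_left, Over.eqToHom_left, eqToHom_refl]
  exact (Category.id_comp _).symm

include hg in
theorem fam_base {B : Art k k} (φ : letI := algStk Q h; HomSet (stk Q h) (resStk Q h) B) :
    FGA.quotPull x E (om (toBase B)) (fam x E Q Ku h φ).1 = K₀.1 := by
  rw [← fam_spec, quotPull_trans, om_toBase e, Category.assoc, resA_toPt]
  exact hg

theorem smul_apply (w : Zs x (base k k)) {M N : (Zs x (base k k)).Modules} (c : k) (f : M ⟶ N)
    (v : M.presheaf.stalk w) :
    letI : (Zs x (base k k)).Over (Spec (CommRingCat.of k)) := ⟨PicF.XTproj x (T (base k k))⟩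
    stalkLin (c • f) w v =
      (Zs x (base k k)).presheaf.germ ⊤ w trivial (Coh.toGlobal (PicF.XTproj x (T (base k k))) c) • stalkLin f w v := by
  letI : (Zs x (base k k)).Over (Spec (CommRingCat.of k)) := ⟨PicF.XTproj x (T (base k k))⟩
  rw [KLin.smul_def, stalkLin_comp_apply, Formal.smulMod, BCLib.stalkLin_smulModΓ, map_smul]
  rfl

variable [Coh.IsQCoh E]

/-- The map `K → F` attached to a tangent vector. -/
def tan (φ : letI := algStk Q h; HomSet (stk Q h) (resStk Q h) (dual k k)) :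
    (K₀.1 : (Zs x _).Modules) ⟶ cokernel K₀.1.arrow :=
  (exists_rel K₀ (fam_base x E Q Ku h K₀ e hg φ) (fam_base x E Q Ku h K₀ e hg (φz Q h (dual k k)))).choose

theorem tan_rel (φ : letI := algStk Q h; HomSet (stk Q h) (resStk Q h) (dual k k)) :
    Rel x E K₀ (fam x E Q Ku h φ) (fam x E Q Ku h (φz Q h (dual k k))) (tan x E Q Ku h K₀ e hg φ) :=
  (exists_rel K₀ (fam_base x E Q Ku h K₀ e hg φ) (fam_base x E Q Ku h K₀ e hg (φz Q h (dual k k)))).choose_spec

/-- Reading off `tan` along a map of Artinian algebras. -/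
theorem tan_map {B : Art k k} (g : B ⟶ dual k k) (φ : letI := algStk Q h; HomSet (stk Q h) (resStk Q h) B)
    (w : Zs x (base k k)) (n : ((fam x E Q Ku h φ).1 : (Zs x B).Modules).presheaf.stalk (i₀ x B w))
    (t : ((fam x E Q Ku h (φz Q h B)).1 : (Zs x B).Modules).presheaf.stalk (i₀ x B w))
    (x0 : (K₀.1 : (Zs x _).Modules).presheaf.stalk w)
    (hx0 : stalkLin K₀.1.arrow w x0 = θ₀ x E B w (stalkLin (fam x E Q Ku h φ).1.arrow _ n))
    (c : (FGA.ET x E (T B)).presheaf.stalk (i₀ x B w) →+ (FGA.ET x E (T (dual k k))).presheaf.stalk (i₀ x (dual k k) w))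
    (hc : ∀ z, θ₀ x E (dual k k) w (c z) = θ₀ x E B w z)
    (hK : ∀ (K' : Subobject (FGA.ET x E (T B))) (K : Subobject (FGA.ET x E (T (dual k k)))),
      FGA.quotPull x E (om g) K' = K →
        ∀ n, ∃ m, stalkLin K.arrow (i₀ x (dual k k) w) m = c (stalkLin K'.arrow (i₀ x B w) n))
    (v : (FGA.ET x E (T (dual k k))).presheaf.stalk (i₀ x (dual k k) w))
    (hv : letI := algOf (PicF.XTproj x (T (dual k k)))
      c (stalkLin (fam x E Q Ku h φ).1.arrow _ n) =
        c (stalkLin (fam x E Q Ku h (φz Q h B)).1.arrow _ t) + (TanHilbLib.eps (k := k)) • v) :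
    letI := algStk Q h
    stalkLin (tan x E Q Ku h K₀ e hg (HomSet.map g φ)) w x0 = π₀ x E K₀ w (θ₀ x E (dual k k) w v) := by
  letI := algStk Q h
  letI := algOf (PicF.XTproj x (T (dual k k)))
  obtain ⟨m, hm⟩ := hK _ _ (fam_map x E Q Ku h g φ) n
  have ht' : FGA.quotPull x E (om g) (fam x E Q Ku h (φz Q h B)).1 = (fam x E Q Ku h (φz Q h (dual k k))).1 := by
    rw [fam_map, map_φz]
  obtain ⟨m', hm'⟩ := hK _ _ ht' t
  refine tan_rel x E Q Ku h K₀ e hg (HomSet.map g φ) w m m' v x0 ?_ ?_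
  · rw [hm, hm', hv]
  · rw [hm, hc, hx0]

theorem tan_add (z : letI := algStk Q h; HomSet (stk Q h) (resStk Q h) (dual2 k k)) :
    letI := algStk Q h
    tan x E Q Ku h K₀ e hg (HomSet.map pr₁ z) + tan x E Q Ku h K₀ e hg (HomSet.map pr₂ z) =
      tan x E Q Ku h K₀ e hg (HomSet.map plus z) := by
  letI := algStk Q h
  letI := algOf (PicF.XTproj x (T (dual k k)))
  letI := algOf (PicF.XTproj x (T (dual2 k k)))
  refine hom_ext_stalk fun w => LinearMap.ext fun x0 => ?_
  have hz := fam_base x E Q Ku h K₀ e hg z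
  have hz0 := fam_base x E Q Ku h K₀ e hg (φz Q h (dual2 k k))
  obtain ⟨n, hn⟩ := exists_over K₀ hz w x0
  obtain ⟨t, ht⟩ := exists_over K₀ hz0 w x0
  have hmem := mem_smul_of_θ₀_eq_zero (B := dual2 k k) w
    (z := stalkLin (fam x E Q Ku h z).1.arrow _ n - stalkLin (fam x E Q Ku h (φz Q h (dual2 k k))).1.arrow _ t)
    (by rw [θ₀_sub]; exact sub_eq_zero.2 (hn.trans ht.symm))
  obtain ⟨u, hu, v, hv, huv⟩ := Submodule.mem_sup.1
    ((Submodule.sup_smul _ _ _).le (Submodule.smul_mono_left maximalIdeal_dual2_le hmem))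
  obtain ⟨a, rfl⟩ := exists_of_mem_span_smul _ hu
  obtain ⟨b, rfl⟩ := exists_of_mem_span_smul _ hv
  have hn' := eq_add_of_sub_eq' huv.symm
  obtain ⟨c₁, hc₁, hs₁, hK₁⟩ := exists_cmap x E (pr₁ (Λ := k) (k := k)) w
  obtain ⟨c₂, hc₂, hs₂, hK₂⟩ := exists_cmap x E (pr₂ (Λ := k) (k := k)) w
  obtain ⟨c₃, hc₃, hs₃, hK₃⟩ := exists_cmap x E (plus (Λ := k) (k := k)) w
  rw [stalkLin_add_apply,
    tan_map x E Q Ku h K₀ e hg pr₁ z w n t x0 hn.symm c₁ hc₁ hK₁ (c₁ a)
      (by rw [hn', map_add, map_add, hs₁, hs₁, pr₁_e₁, pr₁_e₂, zero_smul, add_zero]),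
    tan_map x E Q Ku h K₀ e hg pr₂ z w n t x0 hn.symm c₂ hc₂ hK₂ (c₂ b)
      (by rw [hn', map_add, map_add, hs₂, hs₂, pr₂_e₁, pr₂_e₂, zero_smul, zero_add]),
    tan_map x E Q Ku h K₀ e hg plus z w n t x0 hn.symm c₃ hc₃ hK₃ (c₃ a + c₃ b)
      (by rw [hn', map_add, map_add, hs₃, hs₃, plus_e₁, plus_e₂, smul_add]),
    hc₁, hc₂, θ₀_add, hc₃, hc₃, map_add]

theorem tan_scale (c : k) (φ : letI := algStk Q h; HomSet (stk Q h) (resStk Q h) (dual k k)) :
    letI := algStk Q h
    letI : (Zs x (base k k)).Over (Spec (CommRingCat.of k)) := ⟨PicF.XTproj x (T (base k k))⟩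
    tan x E Q Ku h K₀ e hg (HomSet.map (scale c) φ) = c • tan x E Q Ku h K₀ e hg φ := by
  letI := algStk Q h
  letI := algOf (PicF.XTproj x (T (dual k k)))
  letI := algOf (PicF.XTproj x (T (base k k)))
  letI : (Zs x (base k k)).Over (Spec (CommRingCat.of k)) := ⟨PicF.XTproj x (T (base k k))⟩
  refine hom_ext_stalk fun w => LinearMap.ext fun x0 => ?_
  obtain ⟨n, t, a, h1, h2⟩ := exists_decomp K₀ (fam_base x E Q Ku h K₀ e hg φ)
    (fam_base x E Q Ku h K₀ e hg (φz Q h (dual k k))) w x0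
  obtain ⟨c', hc', hs', hK'⟩ := exists_cmap x E (scale (Λ := k) c) w
  rw [tan_map x E Q Ku h K₀ e hg (scale c) φ w n t x0 h2 c' hc' hK'
    (algebraMap k (dual k k).carrier c • c' a)
    (by rw [h1, map_add, hs', smul_smul, scale_eps]),
    smul_apply, tan_rel x E Q Ku h K₀ e hg φ w n t a x0 h1 h2]
  refine Eq.trans (congrArg (π₀ x E K₀ w) ((θ_smul x E (toBase (dual k k)) w _ (c' a)).trans
    (congrArg _ (hc' a)))) ?_
  rw [stalk_smul_def, map_smul]
  rfl

variable (hQ : FGA.QuotRepresentedBy x E Q Ku)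

include hQ in
theorem bijective_tan (hE : Coh.IsCoh E) :
    letI := algStk Q h
    Function.Bijective (tan x E Q Ku h K₀ e hg) := by
  letI := algStk Q h
  haveI : ∀ C : Art k k, IsLocallyNoetherian (TA C).left := fun C =>
    inferInstanceAs (IsLocallyNoetherian (Spec (CommRingCat.of C)))
  refine ⟨fun φ ψ hφψ => ?_, fun f => ?_⟩
  · have hb := @fun a => fam_base x E Q Ku h K₀ e hg (B := dual k k) a
    have e1 := Rel.eq K₀ (hb (φz Q h (dual k k))) (hb ψ) (hb φ) (tan_rel x E Q Ku h K₀ e hg φ)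
      (by rw [hφψ]; exact tan_rel x E Q Ku h K₀ e hg ψ)
    obtain ⟨g₁, -, hu⟩ := hQ.2 (TA (dual k k)) (fam x E Q Ku h φ)
    exact toPt_injective Q h ((hu _ (fam_spec x E Q Ku h φ)).trans
      (hu _ ((fam_spec x E Q Ku h ψ).trans (congrArg Subtype.val e1).symm)).symm)
  · obtain ⟨K', hK', hrel⟩ := exists_lift_rel x E K₀ (fam x E Q Ku h (φz Q h (dual k k))) hE
      (fam_base x E Q Ku h K₀ e hg _) f
    obtain ⟨g', hg', -⟩ := hQ.2 (TA (dual k k)) K'
    obtain ⟨g₀, -, hu₀⟩ := hQ.2 (T (base k k)) K₀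
    have hpt : resA (dual k k) ≫ g' = h := by
      have h1 : FGA.quotPull x E (om (toBase (dual k k)) ≫ g') Ku.1 = K₀.1 := by
        rw [← quotPull_trans, hg']
        exact hK'
      have h2 := (hu₀ _ h1).trans (hu₀ _ hg).symm
      rw [om_toBase e, Category.assoc] at h2
      exact (cancel_epi (eqToHom e)).1 h2
    obtain ⟨φ, hφ⟩ := exists_toPt Q h g' hpt
    have e2 : fam x E Q Ku h φ = K' := Subtype.ext (by rw [← fam_spec, hφ, hg'])
    refine ⟨φ, Rel.unique K₀ (fam_base x E Q Ku h K₀ e hg φ) (fam_base x E Q Ku h K₀ e hg (φz Q h _))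
      (tan_rel x E Q Ku h K₀ e hg φ) ?_⟩
    rw [e2]
    exact hrel

omit [Coh.IsQCoh E] in
theorem finrank_cotangent_quot (hE : Coh.IsCoh E) (T₀ : Over (Spec (CommRingCat.of k))) (g : T₀ ⟶ Q)
    (L₀ : FGA.QuotSet x E T₀) (hgL : FGA.quotPull x E g Ku.1 = L₀.1) (hQ : FGA.QuotRepresentedBy x E Q Ku)
    (e' : T₀ = Over.mk (𝟙 (specPt k))) (hgh : g = eqToHom e' ≫ h)
    (p : PicF.XT x T₀ ⟶ Spec (CommRingCat.of k)) (hp : HEq p (PicF.XTproj x T₀)) :
    Module.finrank (ResidueField (stk Q h)) (CotangentSpace (stk Q h)) =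
      (letI : (PicF.XT x T₀).Over (Spec (CommRingCat.of k)) := ⟨p⟩
      Module.finrank k ((L₀.1 : (PicF.XT x T₀).Modules) ⟶ cokernel L₀.1.arrow)) := by
  haveI := hE.1
  have e₀ : T (base k k) = T₀ := by
    rw [e']
    show Over.mk (specOver (base k k)) = _
    congr 1
    show specMap (ofBase (base k k)) = _
    rw [show ofBase (base k k) = 𝟙 _ from Art.hom_ext (AlgHom.ext fun c => rfl), specMap_id]
    rfl
  subst e₀
  subst hgh
  obtain rfl := eq_of_heq hp
  letI : (Zs x (base k k)).Over (Spec (CommRingCat.of k)) := ⟨PicF.XTproj x (T (base k k))⟩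
  letI := algStk Q h
  haveI : IsLocallyNoetherian Q.left := hQ.1
  obtain ⟨T'⟩ := nonempty_tangentStr (hR_h0 (resStk Q h)) (hR_heps (resStk Q h))
  letI := T'
  rw [← finrank_tangent (resStk Q h)]
  have hadd : ∀ a b : TangentSpace (hR (stk Q h) (resStk Q h)),
      tan x E Q Ku h L₀ e' hgL (a + b) = tan x E Q Ku h L₀ e' hgL a + tan x E Q Ku h L₀ e' hgL b := fun a b => by
    obtain ⟨z, hz1, hz2⟩ := (cmp_surjective_iff (isFibreProd_dual2 (Λ := k) (k := k))).mp
      (hR_heps (resStk Q h) _ _ isFibreProd_dual2).2 a b (@Subsingleton.elim _ (hR_h0 (resStk Q h)).2 _ _)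
    have e1 : a + b = TangentSpace.mk ((hR (stk Q h) (resStk Q h)).map plus z) := by
      rw [← hz1, ← hz2]; exact TangentStr.add_eq z
    rw [e1, ← hz1, ← hz2]
    exact (tan_add x E Q Ku h L₀ e' hgL z).symm
  have hsmul : ∀ (c : k) (a : TangentSpace (hR (stk Q h) (resStk Q h))),
      tan x E Q Ku h L₀ e' hgL (c • a) = c • tan x E Q Ku h L₀ e' hgL a := fun c a => by
    rw [show c • a = TangentSpace.mk ((hR (stk Q h) (resStk Q h)).map (scale c) a) from TangentStr.smul_eq c a]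
    exact tan_scale x E Q Ku h L₀ e' hgL c a
  let L : TangentSpace (hR (stk Q h) (resStk Q h)) →ₗ[k]
      ((L₀.1 : (PicF.XT x (T (base k k))).Modules) ⟶ cokernel L₀.1.arrow) :=
    { toFun := tan x E Q Ku h L₀ e' hgL, map_add' := hadd, map_smul' := hsmul }
  exact (LinearEquiv.ofBijective L (bijective_tan x E Q Ku h L₀ e' hgL hQ hE)).finrank_eq

end Groth.Agent.QuotTanLib
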