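import Groth.Agent.QuotTanLib.Map

/-!
# Every map `K → F` comes from a first order deformation
-/

set_option autoImplicit false
set_option backward.isDefEq.respectTransparency false
set_option linter.style.haveILetI false

universe u

open CategoryTheory CategoryTheory.Limits AlgebraicGeometry TopologicalSpace Opposite
open Groth.Agent.PullbackMod Groth.Agent.DCohLib IsLocalRing Groth.Agent.HilbObsLib

noncomputable section

namespace Groth.Agent.QuotTanLib

theorem stalk_desc_sub {Z₀ Z : Scheme.{u}} (i : Z₀ ⟶ Z) {P A B : Z.Modules} {A₀ N M : Z₀.Modules} (p : P ⟶ A)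
    (q : P ⟶ B) (e : (Scheme.Modules.pullback i).obj A ⟶ A₀) (φ : A₀ ⟶ M) (η : (Scheme.Modules.pullback i).obj B ⟶ N)
    (π : N ⟶ M) (w : Z₀) (v : P.presheaf.stalk (i w)) :
    stalkLin (((Scheme.Modules.pullback i).map p ≫ e) ≫ φ - ((Scheme.Modules.pullback i).map q ≫ η) ≫ π) w
        (pullStalk i P w v) =
      stalkLin φ w (stalkLin e w (pullStalk i A w (stalkLin p (i w) v))) -
        stalkLin π w (stalkLin η w (pullStalk i B w (stalkLin q (i w) v))) := by
  rw [stalkLin_sub_apply, stalkLin_comp_apply, stalkLin_comp_apply, stalkLin_comp_apply, stalkLin_comp_apply,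
    pullStalk_natural, pullStalk_natural]

theorem exists_adjoint {Z₀ Z : Scheme.{u}} (i : Z₀ ⟶ Z) [IsClosedImmersion i] {P : Z.Modules} {M : Z₀.Modules}
    (ω₀ : (Scheme.Modules.pullback i).obj P ⟶ M) :
    ∃ ω : P ⟶ (Scheme.Modules.pushforward i).obj M, ∀ w q, stalkLin ω (i w) q = 0 ↔
      stalkLin ω₀ w (pullStalk i P w q) = 0 := by
  refine ⟨(Scheme.Modules.pullbackPushforwardAdjunction i).unit.app P ≫ (Scheme.Modules.pushforward i).map ω₀,
    fun w q => ?_⟩
  rw [← (bijective_pushStalk i M w).1.eq_iff, map_zero]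
  refine Eq.congr_left ?_
  rw [stalkLin_comp_apply]
  exact (pushStalk_map i ω₀ w _).trans (congrArg _ (unit_stalk_pushStalk i _ w q))

theorem exists_image_ker {Z : Scheme.{u}} [IsLocallyNoetherian Z] {P M E' : Z.Modules} (ω : P ⟶ M) (g : P ⟶ E')
    (hP : Coh.IsCoh P) (hM : Coh.IsCoh M) (hE : Coh.IsCoh E') :
    ∃ S : Subobject E', Coh.IsCoh (cokernel S.arrow) ∧ ∀ z y,
      (∃ n, stalkLin S.arrow z n = y) ↔ ∃ q, stalkLin ω z q = 0 ∧ stalkLin g z q = y := by
  let κ := kernel.ι ω ≫ g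
  refine ⟨imageSubobject κ, ?_, fun z y => ⟨?_, ?_⟩⟩
  · exact TildeOpenLib.isCoh_of_iso' ((cokernelEpiComp (factorThruImageSubobject κ) (imageSubobject κ).arrow).symm ≪≫
        cokernelIsoOfEq (imageSubobject_arrow_comp κ)).symm
      (QCohLib.isCoh_kernel_cokernel κ (QCohLib.isCoh_kernel_cokernel ω hP hM).1 hE).2
  · rintro ⟨n, rfl⟩
    obtain ⟨v, rfl⟩ := (epi_iff_stalk (factorThruImageSubobject κ)).1 inferInstance z n
    refine ⟨stalkLin (kernel.ι ω) z v, stalk_kernel_ι_comp ω z v, ?_⟩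
    rw [← stalkLin_comp_apply (factorThruImageSubobject κ), imageSubobject_arrow_comp, stalkLin_comp_apply]
  · rintro ⟨q, hq, rfl⟩
    obtain ⟨v, rfl⟩ := stalk_kernel_ι_exists ω z hq
    refine ⟨stalkLin (factorThruImageSubobject κ) z v, ?_⟩
    rw [← stalkLin_comp_apply (factorThruImageSubobject κ), imageSubobject_arrow_comp, stalkLin_comp_apply]

variable {k : Type u} [Field k] {X : Scheme.{u}} (x : X ⟶ Spec (CommRingCat.of k)) (E : X.Modules)
  [LocallyOfFiniteType x]
  (K₀ : FGA.QuotSet x E (T (ArtFun.Art.base k k))) (Kt : FGA.QuotSet x E (T (D (k := k))))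

set_option maxHeartbeats 1600000 in
theorem exists_lift_rel (hE : Coh.IsCoh E)
    (hKt : FGA.quotPull x E (om (ArtFun.Art.toBase D)) Kt.1 = K₀.1)
    (φ : (K₀.1 : (Zs x _).Modules) ⟶ cokernel K₀.1.arrow) :
    ∃ K' : FGA.QuotSet x E (T (D (k := k))),
      FGA.quotPull x E (om (ArtFun.Art.toBase D)) K'.1 = K₀.1 ∧ Rel x E K₀ K' Kt φ := by
  haveI := hE.1
  letI := algOf (PicF.XTproj x (T (D (k := k))))
  haveI := isLocallyNoetherian_Zs x (D (k := k))
  haveI := isLocallyNoetherian_Zs x (ArtFun.Art.base k k)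
  let i := i₀ x (D (k := k))
  haveI : IsClosedImmersion i := (thick_i₀ x (D (k := k))).closedImm
  obtain ⟨e, hepi, he⟩ := exists_factor x E (ArtFun.Art.toBase D) hKt
  let D₁ := (Kt.1 : (Zs x D).Modules) ⊞ FGA.ET x E (T (D (k := k)))
  let g : D₁ ⟶ FGA.ET x E (T (D (k := k))) :=
    biprod.fst ≫ Kt.1.arrow + biprod.snd ≫ smulB (FGA.ET x E (T (D (k := k)))) (TanHilbLib.eps (k := k))
  let ω₀ : (Scheme.Modules.pullback i).obj D₁ ⟶ cokernel K₀.1.arrow :=
    ((Scheme.Modules.pullback i).map biprod.fst ≫ e) ≫ φ -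
      ((Scheme.Modules.pullback i).map biprod.snd ≫ (FGA.ETiso x E (om (ArtFun.Art.toBase D))).hom) ≫
        cokernel.π K₀.1.arrow
  obtain ⟨ω, hω₀⟩ := exists_adjoint i ω₀
  have hcE := isCoh_ET x E hE (D (k := k))
  have hcKt : Coh.IsCoh (Kt.1 : (Zs x D).Modules) :=
    TildeOpenLib.isCoh_of_iso' ((kernelIsKernel (cokernel.π Kt.1.arrow)).conePointUniqueUpToIso
      (Abelian.monoIsKernelOfCokernel (CokernelCofork.ofπ (cokernel.π Kt.1.arrow) (cokernel.condition Kt.1.arrow))
        (cokernelIsCokernel Kt.1.arrow)))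
      (QCohLib.isCoh_kernel_cokernel (cokernel.π Kt.1.arrow) hcE Kt.2.1).1
  obtain ⟨S, hcoh, hS⟩ := exists_image_ker ω g (DevLib.isCoh_biprod hcKt hcE)
    (DevLib.isCoh_pushforward_closed i K₀.2.1) hcE
  -- stalks
  have he' : ∀ w (t : (Kt.1 : (Zs x D).Modules).presheaf.stalk (i w)),
      stalkLin K₀.1.arrow w (stalkLin e w (pullStalk i _ w t)) = θ₀ x E D w (stalkLin Kt.1.arrow (i w) t) := fun w t => by
    rw [← stalkLin_comp_apply, ← he, stalkLin_comp_apply, pullStalk_natural]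
    rfl
  have hg : ∀ z q, stalkLin g z q = stalkLin Kt.1.arrow z (stalkLin biprod.fst z q) +
      (TanHilbLib.eps (k := k)) • stalkLin biprod.snd z q := fun z q => by
    simp only [g, stalkLin_add_apply, stalkLin_comp_apply, stalkLin_smulB]
    rfl
  have hω : ∀ w q, stalkLin ω (i w) q = 0 ↔
      stalkLin φ w (stalkLin e w (pullStalk i _ w (stalkLin biprod.fst (i w) q))) =
        π₀ x E K₀ w (θ₀ x E D w (stalkLin biprod.snd (i w) q)) := fun w q => by
    refine (hω₀ w q).trans (Iff.trans ?_ sub_eq_zero)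
    rw [show ω₀ = ((Scheme.Modules.pullback i).map biprod.fst ≫ e) ≫ φ -
      ((Scheme.Modules.pullback i).map biprod.snd ≫ (FGA.ETiso x E (om (ArtFun.Art.toBase D))).hom) ≫
        cokernel.π K₀.1.arrow from rfl, stalk_desc_sub]
    exact Iff.rfl
  have hmk : ∀ w t a, stalkLin φ w (stalkLin e w (pullStalk i _ w t)) = π₀ x E K₀ w (θ₀ x E D w a) →
      ∃ n, stalkLin S.arrow (i w) n = stalkLin Kt.1.arrow (i w) t + (TanHilbLib.eps (k := k)) • a := fun w t a h => by
    let q := stalkLin (biprod.inl : _ ⟶ D₁) (i w) t + stalkLin (biprod.inr : _ ⟶ D₁) (i w) a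
    have q1 : stalkLin biprod.fst (i w) q = t := by
      rw [map_add, ← stalkLin_comp_apply, ← stalkLin_comp_apply, biprod.inl_fst, biprod.inr_fst, stalkLin_id_apply,
        DevLib.stalkLin_zero, LinearMap.zero_apply, add_zero]
    have q2 : stalkLin biprod.snd (i w) q = a := by
      rw [map_add, ← stalkLin_comp_apply, ← stalkLin_comp_apply, biprod.inl_snd, biprod.inr_snd, stalkLin_id_apply,
        DevLib.stalkLin_zero, LinearMap.zero_apply, zero_add]
    exact (hS (i w) _).2 ⟨q, (hω w q).2 (by rw [q1, q2, h]), by rw [hg, q1, q2]⟩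
  have hdec : ∀ w n, ∃ t a, stalkLin S.arrow (i w) n = stalkLin Kt.1.arrow (i w) t + (TanHilbLib.eps (k := k)) • a ∧
      stalkLin φ w (stalkLin e w (pullStalk i _ w t)) = π₀ x E K₀ w (θ₀ x E D w a) := fun w n => by
    obtain ⟨q, hq, e⟩ := (hS (i w) _).1 ⟨n, rfl⟩
    exact ⟨_, _, e.symm.trans (hg _ q), (hω w q).1 hq⟩
  have hθn : ∀ w t a, θ₀ x E D w (stalkLin Kt.1.arrow (i w) t + (TanHilbLib.eps (k := k)) • a) =
      θ₀ x E D w (stalkLin Kt.1.arrow (i w) t) := fun w t a => by rw [θ₀_add, θ₀_eps_smul, add_zero]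
  have hchoose : ∀ w (x0 : (K₀.1 : (Zs x _).Modules).presheaf.stalk w), ∃ a,
      π₀ x E K₀ w (θ₀ x E D w a) = stalkLin φ w x0 := fun w x0 => by
    obtain ⟨y, hy⟩ := (epi_iff_stalk (cokernel.π K₀.1.arrow)).1 inferInstance w (stalkLin φ w x0)
    obtain ⟨a, rfl⟩ := θ₀_surjective (B := D) w y
    exact ⟨a, hy⟩
  have hsurj : Function.Surjective (ArtFun.Art.toBase (D (k := k))) := (D (k := k)).res_surjective
  have hker : RingHom.ker (ArtFun.Art.toBase (D (k := k))).toAlgHom.toRingHom =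
      Ideal.span {(TanHilbLib.eps (k := k))} :=
    (IsLocalRing.eq_maximalIdeal (RingHom.ker_isMaximal_of_surjective _ (D (k := k)).res_surjective)).trans span_eps.symm
  have hm : ∀ b ∈ maximalIdeal (D (k := k)), b * TanHilbLib.eps = 0 := fun b hb => TanHilbLib.mul_eps hb
  have hQ := flatQuot_push x (ArtFun.Art.toBase (D (k := k))) (TanHilbLib.eps (k := k)) hsurj hker _ K₀.2.2
  let Q := qmap x E (ArtFun.Art.toBase (D (k := k))) K₀.1
  haveI : Epi Q := epi_qmap x E _ hsurj K₀.1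
  have hQker : ∀ w y, stalkLin Q (i w) y = 0 ↔ π₀ x E K₀ w (θ₀ x E D w y) = 0 := fun w y => by
    rw [← (bijective_pushStalk i (cokernel K₀.1.arrow) w).1.eq_iff, map_zero]
    exact (pushStalk_qmap x E (ArtFun.Art.toBase (D (k := k))) K₀.1 w y).congr_left
  have hflat : ∀ z, Module.Flat (D (k := k)) ((cokernel S.arrow).presheaf.stalk z) := fun z => by
    obtain ⟨w, rfl⟩ := (thick_i₀ x (D (k := k))).surj z
    obtain ⟨m, hst, hfl⟩ := hQ (i w)
    letI := m
    haveI := hst
    haveI := hfl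
    haveI := flat_ET x E (D (k := k)) (i w)
    let N' := LinearMap.range (stalkB (B := D (k := k)) S.arrow (i w))
    have hfl' : Module.Flat (D (k := k)) ((FGA.ET x E (T D)).presheaf.stalk (i w) ⧸ N') := by
      refine flat_of_lift _ hm (stalkB (B := D (k := k)) Q (i w)) ((epi_iff_stalk Q).1 inferInstance (i w)) N'
        TanHilbLib.eps_mem (isNilpotent_maximalIdeal _) (fun n hn => ?_) ?_ fun y hy => ?_
      · obtain ⟨x0, hx0⟩ := HilbObsLib.exists_of_pull x E (ArtFun.Art.toBase D) K₀.1 w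
          (z := θ₀ x E D w n) ((hQker w n).1 hn)
        obtain ⟨t, ht⟩ := exists_over K₀ hKt w x0
        obtain ⟨a', ha'⟩ := exists_eps_smul w (z := n - stalkLin Kt.1.arrow (i w) t)
          (by rw [θ₀_sub]; exact sub_eq_zero.2 (hx0.symm.trans ht.symm))
        obtain ⟨a, ha⟩ := hchoose w (stalkLin e w (pullStalk i _ w t))
        obtain ⟨n', hn'⟩ := hmk w t a ha.symm
        refine ⟨a' - a, n', hn'.trans ?_⟩
        rw [eq_add_of_sub_eq' ha', smul_sub]
        abel
      · rintro _ ⟨n, rfl⟩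
        obtain ⟨t, a, hn, -⟩ := hdec w n
        refine LinearMap.mem_ker.2 ((hQker w _).2 ?_)
        show π₀ x E K₀ w (θ₀ x E D w (stalkLin S.arrow (i w) n)) = 0
        rw [hn, hθn, π₀_θ₀_arrow K₀ hKt]
      · obtain ⟨n, hn⟩ := hy
        obtain ⟨t, a, hn', ha⟩ := hdec w n
        have h0 : stalkLin S.arrow (i w) n = (TanHilbLib.eps (k := k)) • y := hn
        have h1 : stalkLin Kt.1.arrow (i w) t = (TanHilbLib.eps (k := k)) • (y - a) := by
          rw [smul_sub, ← h0, hn', add_sub_cancel_right]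
        have h2 : stalkLin e w (pullStalk i _ w t) = 0 :=
          (mono_iff_stalk K₀.1.arrow).1 inferInstance w (by rw [he', h1, θ₀_eps_smul, map_zero])
        rw [h2, map_zero] at ha
        have h3 := π₀_θ₀_eq_zero_of_eps K₀ hKt w _ t h1
        rw [θ₀_sub, map_sub, ← ha, sub_zero] at h3
        exact Submodule.mem_sup_left (LinearMap.mem_ker.2 ((hQker w y).2 h3))
    have hT : (ShortComplex.mk S.arrow (cokernel.π S.arrow) (cokernel.condition _)).ShortExact :=
      ShortComplex.ShortExact.mk' (ShortComplex.exact_of_g_is_cokernel _ (cokernelIsCokernel _))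
        inferInstance inferInstance
    have hex : LinearMap.ker (stalkB (B := D (k := k)) (cokernel.π S.arrow) (i w)) = N' := by
      ext v
      exact DevLib.stalk_exact hT (i w) v
    exact Module.Flat.of_linearEquiv (((Submodule.quotEquivOfEq _ _ hex).symm.trans
      ((stalkB (B := D (k := k)) (cokernel.π S.arrow) (i w)).quotKerEquivOfSurjective
        ((epi_iff_stalk (cokernel.π S.arrow)).1 inferInstance (i w)))).symm)
  let K' : FGA.QuotSet x E (T (D (k := k))) := ⟨S, hcoh, isFlatOver_of_stalk x hflat⟩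
  -- restriction to the closed fibre
  have h0 : ((Scheme.Modules.pullback i).map S.arrow ≫ (FGA.ETiso x E (om (ArtFun.Art.toBase D))).hom) ≫
      cokernel.π K₀.1.arrow = 0 := by
    refine (eq_zero_iff_stalk _).2 fun w => LinearMap.ext fun y => ?_
    obtain ⟨n, rfl⟩ := pullStalk_surjective (thick_i₀ x (D (k := k))) _ w y
    obtain ⟨t, a, hn, -⟩ := hdec w n
    rw [stalkLin_comp_apply, stalkLin_comp_apply, pullStalk_natural, LinearMap.zero_apply, hn]
    show π₀ x E K₀ w (θ₀ x E D w _) = 0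
    rw [hθn, π₀_θ₀_arrow K₀ hKt]
  let e₁ := Abelian.monoLift K₀.1.arrow _ h0
  haveI : Epi e₁ := by
    refine (epi_iff_stalk _).2 fun w x0 => ?_
    obtain ⟨t, ht⟩ := exists_over K₀ hKt w x0
    obtain ⟨a, ha⟩ := hchoose w (stalkLin e w (pullStalk i _ w t))
    obtain ⟨n, hn⟩ := hmk w t a ha.symm
    refine ⟨pullStalk i _ w n, (mono_iff_stalk K₀.1.arrow).1 inferInstance w ?_⟩
    rw [← stalkLin_comp_apply, Abelian.monoLift_comp, stalkLin_comp_apply, pullStalk_natural, hn]
    exact (hθn w t a).trans ht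
  have hK' : FGA.quotPull x E (om (ArtFun.Art.toBase D)) K'.1 = K₀.1 :=
    (congrArg _ (Subobject.mk_arrow S).symm).trans
      (quotPull_eq x E (ArtFun.Art.toBase D) K₀.1 S.arrow e₁ (Abelian.monoLift_comp _ _ _).symm)
  refine ⟨K', hK', fun w n t a x0 h1 h2 => ?_⟩
  obtain ⟨t', a', hn, ha⟩ := hdec w n
  have e0 : stalkLin e w (pullStalk i _ w t') = x0 := by
    refine (mono_iff_stalk K₀.1.arrow).1 inferInstance w ?_
    rw [he', h2]
    show _ = θ₀ x E D w (stalkLin S.arrow (i w) n)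
    rw [hn, hθn]
  rw [e0] at ha
  rw [ha]
  have h3 : stalkLin Kt.1.arrow (i w) (t' - t) = (TanHilbLib.eps (k := k)) • (a - a') := by
    have h4 : stalkLin Kt.1.arrow (i w) t' + (TanHilbLib.eps (k := k)) • a' =
        stalkLin Kt.1.arrow (i w) t + (TanHilbLib.eps (k := k)) • a := hn.symm.trans h1
    rw [map_sub, smul_sub, sub_eq_sub_iff_add_eq_add, h4]
    abel
  have h5 := π₀_θ₀_eq_zero_of_eps K₀ hKt w _ _ h3
  rw [θ₀_sub, map_sub, sub_eq_zero] at h5
  exact h5.symm

end Groth.Agent.QuotTanLib
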